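import Cfsg.Agent.Helper19.Fi24Ord.Base

/-! A criterion for a map of the twelve letters into a group to extend to the presented group. -/

set_option autoImplicit false
set_option linter.all false

namespace Cfsg.Agent.Helper19.Fi24Ord

open Cfsg.Spor Cfsg.Agent.Helper19.TCS

theorem coxLabel_symm (x y : Gn) : coxLabel Fi24.edges x y = coxLabel Fi24.edges y x := by
  cases x <;> cases y <;> rfl

theorem idx_injective : Function.Injective idx := by
  intro x y h
  rw [← gen_idx x, ← gen_idx y, h]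

section lift

variable {Γ : Type*} [Group Γ] (f : ℕ → Γ)

theorem prodw_coxW_eq (i j : ℕ) : prodw f (coxW i j) = (f j * f i) ^ lab j i := by
  rw [coxW, prodw_replicate]
  congr 1
  simp [prodw]

theorem prodw_rlW_eq : prodw f rlW = (f 2 * f 3 * f 4 * f 5 * f 6 * f 7 * f 10) ^ 9 * f 0 := by
  rw [rlW, prodw, prodw_replicate]
  congr 2
  simp [prodw, mul_assoc]

theorem prodw_rzW_eq (hf : ∀ l, (f l)⁻¹ = f l) : prodw f rzW =
    ((f 5 * f 4 * f 3 * f 2 * f 1 * f 0 * f 5 * f 6 * f 7 * f 8 * f 9 * f 5 * f 10 * f 11) ^ 17)⁻¹ := by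
  rw [rzW, prodw_replicate, ← inv_pow]
  congr 1
  have := prodw_reverse_inv f hf [11, 10, 5, 9, 8, 7, 6, 5, 0, 1, 2, 3, 4, 5]
  rw [show ([11, 10, 5, 9, 8, 7, 6, 5, 0, 1, 2, 3, 4, 5] : List ℕ).reverse =
    [5, 4, 3, 2, 1, 0, 5, 6, 7, 8, 9, 5, 10, 11] from rfl] at this
  rw [this]
  simp [prodw, mul_assoc]

/-- involutions satisfying the Coxeter words of the pairs `i < j` and the two further words give a
homomorphism from the presented group. -/
theorem lift_rels (hsq : ∀ l, f l * f l = 1)
    (hcox : ∀ i j, i < j → j < 12 → prodw f (coxW i j) = 1)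
    (hl : prodw f rlW = 1) (hz : prodw f rzW = 1) :
    ∀ r ∈ Rels, FreeGroup.lift (fun x => f (idx x)) r = 1 := by
  have hf : ∀ l, (f l)⁻¹ = f l := fun l => by
    rw [inv_eq_iff_mul_eq_one]; exact hsq l
  intro r hr
  rcases hr with ⟨x, -, y, -, rfl⟩ | hr
  · simp only [map_pow, map_mul, FreeGroup.lift_apply_of]
    rcases lt_trichotomy (idx x) (idx y) with h | h | h
    · have h1 := hcox (idx x) (idx y) h (idx_lt y)
      rw [prodw_coxW_eq, lab, gen_idx, gen_idx] at h1
      rw [coxLabel_symm]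
      have h2 : (f (idx x) * f (idx y)) = (f (idx y) * f (idx x))⁻¹ := by
        rw [mul_inv_rev, hf, hf]
      rw [h2, inv_pow, h1, inv_one]
    · have hxy : x = y := idx_injective h
      subst hxy
      have : coxLabel Fi24.edges x x = 1 := by simp [coxLabel]
      rw [this, pow_one]
      exact hsq _
    · have h1 := hcox (idx y) (idx x) h (idx_lt x)
      rw [prodw_coxW_eq, lab, gen_idx, gen_idx] at h1
      exact h1
  · have hr' : r = Fi24.l * (((Fi24.a * Fi24.b * Fi24.c * Fi24.d * Fi24.e * Fi24.f * Fi24.h) ^ 9)⁻¹) ∨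
        r = (Fi24.d * Fi24.c * Fi24.b * Fi24.a * Fi24.k * Fi24.l * Fi24.d * Fi24.e * Fi24.f *
          Fi24.g * Fi24.j * Fi24.d * Fi24.h * Fi24.i) ^ 17 := by
      simpa [Fi24.extra] using hr
    rcases hr' with rfl | rfl
    · simp only [map_mul, map_inv, map_pow, FreeGroup.lift_apply_of, idx]
      rw [prodw_rlW_eq] at hl
      rw [mul_inv_eq_one]
      have := eq_inv_of_mul_eq_one_left hl
      rw [hf] at this
      exact this.symm
    · simp only [map_mul, map_pow, FreeGroup.lift_apply_of, idx]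
      rw [prodw_rzW_eq f hf, inv_eq_one] at hz
      exact hz

end lift

end Cfsg.Agent.Helper19.Fi24Ord
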