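import Cfsg.Agent.Helper19.Fi24Ord.Closed
import Cfsg.Agent.Helper19.Fi24Ord.Lift
import Cfsg.Agent.Helper19.Fi24Q.Facts
import Cfsg.Agent.Helper19.TCR.Perm

/-! The permutation representation of the presented group `Fi₂₄` on the `306936` rows of the coset
table `Fi24P`, and the index of `Hs = ⟨a, …, j, l⟩`.

API: `phi : G →* Equiv.Perm ℕ`, `phi_gG`, `phi_prodw`, `phi_prodw_apply`, `phi_lt`, `phi_ge`,
`stab0 : phi g 0 = 0 ↔ g ∈ Hs`, `trans0`, `card_quot : Nat.card (G ⧸ Hs) = 306936`,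
`index_Hs : Hs.index = 306936`; the table is `Fi24P.ent i l % 524288` (row `i`, letter `l`; the
letters are `l k a b c d e f g j h i = 0 … 11`). -/

set_option autoImplicit false
set_option linter.all false
set_option maxRecDepth 100000

noncomputable section

namespace Cfsg.Agent.Helper19.Fi24Ord

open Cfsg.Spor Cfsg.Agent.Helper19.TCS

/-- the permutation of a letter. -/
def sig (l : ℕ) : Equiv.Perm ℕ :=
  sigma (N := 306936) (nc := 12) (md := 524288) (ent := Fi24P.ent) Fi24Q.inv_all l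

theorem sig_sq (l : ℕ) : sig l * sig l = 1 := sigma_mul_self _ l

theorem sig_inv (l : ℕ) : (sig l)⁻¹ = sig l := sigma_inv _ l

theorem prodw_sig_lt (w : List ℕ) (hw : ∀ l ∈ w, l < 12) {i : ℕ} (hi : i < 306936) :
    prodw sig w i = evalw 524288 Fi24P.ent w i ∧ evalw 524288 Fi24P.ent w i < 306936 :=
  prodw_sigma_lt Fi24Q.inv_all w hw hi

theorem prodw_sig_ge (w : List ℕ) {i : ℕ} (hi : 306936 ≤ i) : prodw sig w i = i :=
  prodw_sigma_ge Fi24Q.inv_all w hi

theorem coxW_mem : ∀ j < 12, ∀ i < j, coxW i j ∈ Fi24Q.coxWords := by decide +kernel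

theorem coxW_lt : ∀ j < 12, ∀ i < j, ∀ l ∈ coxW i j, l < 12 := by decide +kernel

theorem sig_cox (i j : ℕ) (hij : i < j) (hj : j < 12) : prodw sig (coxW i j) = 1 :=
  prodw_sigma_eq_one Fi24Q.inv_all (coxW_lt j hj i hij)
    (fun p hp => Fi24Q.cox_all p hp _ (coxW_mem j hj i hij))

theorem rlW_eq : rlW = 0 :: (List.replicate 9 Fi24Q.cw).flatten := rfl

theorem rzW_eq : rzW = (List.replicate 17 Fi24Q.zw).flatten := rfl

theorem Wc_lt : ∀ i, i < 306936 → Fi24Q.Wc i < 306936 := by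
  intro i hi
  rw [← Fi24Q.ca_all i hi]
  exact (prodw_sig_lt Fi24Q.cw (by decide) hi).2

theorem Wz_lt : ∀ i, i < 306936 → Fi24Q.Wz i < 306936 := by
  intro i hi
  rw [← Fi24Q.za_all i hi]
  exact (prodw_sig_lt Fi24Q.zw (by decide) hi).2

theorem sig_rl : prodw sig rlW = 1 := by
  apply prodw_sigma_eq_one Fi24Q.inv_all (by decide)
  intro i hi
  have h1 := Fi24Q.inv_all i hi 0 (by norm_num)
  rw [rlW_eq]
  show evalw 524288 Fi24P.ent (List.replicate 9 Fi24Q.cw).flatten (Fi24P.ent i 0 % 524288) = i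
  rw [evalw_replicate Fi24Q.cw Wc_lt Fi24Q.ca_all 9 _ h1.1, Fi24Q.cp_all _ h1.1]
  exact h1.2

theorem sig_rz : prodw sig rzW = 1 := by
  apply prodw_sigma_eq_one Fi24Q.inv_all (by decide)
  intro i hi
  rw [rzW_eq, evalw_replicate Fi24Q.zw Wz_lt Fi24Q.za_all 17 _ hi, Fi24Q.zp_all _ hi]

theorem hrel : ∀ r ∈ Rels, FreeGroup.lift (fun x => sig (idx x)) r = 1 :=
  lift_rels sig sig_sq sig_cox sig_rl sig_rz

/-- the permutation representation on the rows of the coset table. -/
def phi : G →* Equiv.Perm ℕ := PresentedGroup.toGroup hrel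

theorem idx_gen : ∀ l, l < 12 → idx (gen l) = l := by decide

theorem phi_of (x : Gn) : phi (PresentedGroup.of x) = sig (idx x) := PresentedGroup.toGroup.of hrel

theorem phi_gG : ∀ l, l < 12 → phi (gG l) = sig l := by
  intro l hl
  rw [gG, phi_of, idx_gen l hl]

theorem phi_prodw (w : List ℕ) (hw : ∀ l ∈ w, l < 12) : phi (prodw gG w) = prodw sig w := by
  induction w with
  | nil => simp [prodw]
  | cons l w ih =>
    rw [prodw, prodw, map_mul, ih (fun x hx => hw x (List.mem_cons_of_mem _ hx)),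
      phi_gG l (hw l (List.mem_cons_self ..))]

theorem phi_prodw_apply (w : List ℕ) (hw : ∀ l ∈ w, l < 12) {i : ℕ} (hi : i < 306936) :
    phi (prodw gG w) i = evalw 524288 Fi24P.ent w i := by
  rw [phi_prodw w hw, (prodw_sig_lt w hw hi).1]

theorem sig_zero : ∀ l, l < 12 → l ≠ 1 → sig l 0 = 0 := by
  have h : ∀ l, l < 12 → l ≠ 1 → Fi24P.ent 0 l % 524288 = 0 := by decide +kernel
  intro l hl h1
  rw [sig, sigma_apply, sg, if_pos ⟨hl, by norm_num⟩]
  exact h l hl h1

theorem phi_Hs : ∀ h ∈ Hs, phi h 0 = 0 := by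
  have hle : Hs ≤ (MulAction.stabilizer (Equiv.Perm ℕ) (0 : ℕ)).comap phi := by
    unfold Hs
    rw [Subgroup.map_le_iff_le_comap, Subgroup.closure_le]
    intro x hx
    simp only [Set.mem_insert_iff, Set.mem_singleton_iff] at hx
    simp only [Subgroup.coe_comap, Set.mem_preimage, SetLike.mem_coe, MulAction.mem_stabilizer_iff,
      Equiv.Perm.smul_def]
    rcases hx with rfl | rfl | rfl | rfl | rfl | rfl | rfl | rfl | rfl | rfl | rfl <;>
      · show phi (PresentedGroup.of _) 0 = 0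
        rw [phi_of]
        exact sig_zero _ (by decide) (by decide)
  intro h hh
  have := hle hh
  simpa [MulAction.mem_stabilizer_iff] using this

open Cfsg.Agent.Helper17.TCG in
theorem card_quot_inj :
    Nat.card (G ⧸ Hs) = 306936 ∧ Function.Injective (psi Hs phi phi_Hs) := by
  obtain ⟨S, hcl⟩ := closed
  exact card_quot_eq S hgen hcl Fi24Q.inv_all phi phi_Hs phi_gG Fi24P.treeAll
    (fun j h0 hj => (Fi24Q.par_all j h0 hj).1) (fun j h0 hj => (Fi24Q.par_all j h0 hj).2)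

theorem card_quot : Nat.card (G ⧸ Hs) = 306936 := card_quot_inj.1

theorem index_Hs : Hs.index = 306936 := by
  rw [Subgroup.index_eq_card]; exact card_quot

open Cfsg.Agent.Helper17.TCG in
/-- the stabiliser of the row `0` is `Hs`. -/
theorem stab0 {g : G} : phi g 0 = 0 ↔ g ∈ Hs := by
  constructor
  · intro h
    have h1 : psi Hs phi phi_Hs (g : G ⧸ Hs) = psi Hs phi phi_Hs ((1 : G) : G ⧸ Hs) := by
      rw [psi_mk, psi_mk, h, map_one, Equiv.Perm.one_apply]
    have h2 := card_quot_inj.2 h1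
    rw [QuotientGroup.eq] at h2
    simpa using Hs.inv_mem h2
  · exact phi_Hs g

theorem phi_ge (g : G) {i : ℕ} (hi : 306936 ≤ i) : phi g i = i := by
  have hg : g ∈ Subgroup.closure {g : G | ∃ l, l < 12 ∧ g = gG l} := by rw [hgen]; trivial
  induction hg using Subgroup.closure_induction with
  | mem x hx =>
    obtain ⟨l, hl, rfl⟩ := hx
    rw [phi_gG l hl, sig, sigma_apply, sg, if_neg (by omega)]
  | one => simp
  | mul x y _ _ hx hy => rw [map_mul, Equiv.Perm.mul_apply, hy, hx]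
  | inv x _ hx =>
    rw [map_inv, Equiv.Perm.inv_eq_iff_eq, hx]

theorem phi_lt (g : G) {i : ℕ} (hi : i < 306936) : phi g i < 306936 := by
  by_contra h
  have h1 := phi_ge g⁻¹ (not_lt.mp h)
  rw [map_inv] at h1
  have h2 : (phi g)⁻¹ (phi g i) = i := by simp
  omega

open Cfsg.Agent.Helper17.TCG in
/-- transitivity on the rows. -/
theorem trans0 : ∀ i, i < 306936 → ∃ g : G, phi g 0 = i := by
  intro i hi
  obtain ⟨S, hcl⟩ := closed
  have h := psi_nd Fi24Q.inv_all phi phi_Hs phi_gG Fi24P.treeAll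
    (fun j h0 hj => (Fi24Q.par_all j h0 hj).1) (fun j h0 hj => (Fi24Q.par_all j h0 hj).2) i hi
    (H := Hs) (gc := gG)
  obtain ⟨g, hg⟩ := QuotientGroup.mk_surjective (nd Hs gG Fi24P.parF Fi24P.pletF i)
  rw [← hg, psi_mk] at h
  exact ⟨g, h⟩

end Cfsg.Agent.Helper19.Fi24Ord
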