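import Cfsg.Agent.Helper19.Fi24Ord.Extras
import Cfsg.Agent.Helper19.Fi24P.Facts

/-! The coset table `Fi24P` (306936 rows) is closed for the presented group `Fi₂₄` and the subgroup
`Hs` generated by all the generators but `k`. -/

set_option autoImplicit false
set_option linter.all false
set_option maxRecDepth 100000

namespace Cfsg.Agent.Helper19.Fi24Ord

open Cfsg.Spor Cfsg.Agent.Helper19.TCS

theorem rels_split : ∀ w ∈ Fi24P.rels, isCox w = true ∨ w = rlW ∨ w = rzW ∨ w ∈ extraWords := by
  decide +kernel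

theorem hrels : ∀ w ∈ Fi24P.rels, prodw gG w = 1 := by
  intro w hw
  rcases rels_split w hw with h | rfl | rfl | h
  · exact prodw_of_isCox h
  · exact prodw_rlW
  · exact prodw_rzW
  · exact extraWords_one w h

theorem gG_mem_Hs {l : ℕ} (hl : l < 12) (h1 : l ≠ 1) : gG l ∈ Hs := by
  refine Subgroup.mem_map_of_mem _ (Subgroup.subset_closure ?_)
  interval_cases l <;> simp [gen] at h1 ⊢

theorem hsubs : ∀ w ∈ Fi24P.subs, prodw gG w ∈ Hs := by
  intro w hw
  simp only [Fi24P.subs, List.mem_cons, List.not_mem_nil, or_false] at hw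
  rcases hw with rfl | rfl | rfl | rfl | rfl | rfl | rfl | rfl | rfl | rfl | rfl <;>
    · simp only [prodw, one_mul]
      exact gG_mem_Hs (by norm_num) (by norm_num)

theorem closed :
    Sem 306936 12 Fi24P.invF Fi24P.nrots Fi24P.rotsF Fi24P.subsF Hs gG ∧
      Closed 306936 12 524288 Fi24P.ent Fi24P.parF Fi24P.pletF Hs gG := by
  apply Fi24P.closed
  · intro l _
    rw [Fi24P.invF, gG_inv]
  · exact hrels
  · exact hsubs

end Cfsg.Agent.Helper19.Fi24Ord
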