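import Mathlib
import Cfsg.Prelude.Def_Spor_Fi24
import Cfsg.Agent.Helper19.TCR.Static
import Cfsg.Agent.Helper19.CoxA5.Facts
import Cfsg.Agent.Helper19.CoxD5.Facts

/-! The presented group `Fi₂₄` (`Y₅₄₂` diagram with `l = (abcdefh)^9` and `z = 1`): letters, Coxeter
relations, the two further relators as words, and redundant relators (Coxeter elements of rank-5
parabolics) obtained from the abstract Coxeter groups `A₅`, `D₅` by tiny coset enumerations. -/

set_option autoImplicit false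
set_option linter.all false

noncomputable section

namespace Cfsg.Agent.Helper19.Fi24Ord

open Cfsg.Spor Cfsg.Agent.Helper19.TCS

abbrev Gn := Cfsg.Spor.Fi24.Gen

abbrev Rels : Set (FreeGroup Gn) :=
  Cfsg.Spor.coxRelators Cfsg.Spor.Fi24.edges ∪ {r | r ∈ Cfsg.Spor.Fi24.extra}

abbrev G := PresentedGroup Rels

/-- the subgroup generated by all the generators but `k`. -/
def Hs : Subgroup G :=
  (Subgroup.closure ({Fi24.a, Fi24.b, Fi24.c, Fi24.d, Fi24.e, Fi24.f, Fi24.g, Fi24.h, Fi24.i,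
    Fi24.j, Fi24.l} : Set (FreeGroup Gn))).map (PresentedGroup.mk Rels)

/-- letters in the order of `Fi24.Gen`. -/
def gen : ℕ → Gn
  | 0 => .l
  | 1 => .k
  | 2 => .a
  | 3 => .b
  | 4 => .c
  | 5 => .d
  | 6 => .e
  | 7 => .f
  | 8 => .g
  | 9 => .j
  | 10 => .h
  | _ => .i

def idx : Gn → ℕ
  | .l => 0
  | .k => 1
  | .a => 2
  | .b => 3
  | .c => 4
  | .d => 5
  | .e => 6
  | .f => 7
  | .g => 8
  | .j => 9
  | .h => 10
  | .i => 11

theorem gen_idx (x : Gn) : gen (idx x) = x := by cases x <;> rfl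

theorem idx_lt (x : Gn) : idx x < 12 := by cases x <;> decide

def gG (l : ℕ) : G := PresentedGroup.of (gen l)

theorem mem_nodes (x : Gn) : x ∈ coxNodes Fi24.edges := by
  cases x <;> decide

theorem cox (x y : Gn) :
    ((PresentedGroup.of x : G) * PresentedGroup.of y) ^ coxLabel Fi24.edges x y = 1 := by
  have h : (FreeGroup.of x * FreeGroup.of y) ^ coxLabel Fi24.edges x y ∈ Rels :=
    Or.inl ⟨x, mem_nodes x, y, mem_nodes y, rfl⟩
  have := PresentedGroup.one_of_mem h
  simpa [PresentedGroup.of] using this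

theorem gG_mul_self (l : ℕ) : gG l * gG l = 1 := by
  have := cox (gen l) (gen l)
  simpa [coxLabel, gG] using this

theorem gG_inv (l : ℕ) : (gG l)⁻¹ = gG l := by
  rw [inv_eq_iff_mul_eq_one]; exact gG_mul_self l

theorem extra_one {r : FreeGroup Gn} (h : r ∈ Fi24.extra) : PresentedGroup.mk Rels r = 1 :=
  PresentedGroup.one_of_mem (Or.inr h)

theorem hgen : Subgroup.closure {g : G | ∃ l, l < 12 ∧ g = gG l} = ⊤ := by
  rw [eq_top_iff, ← PresentedGroup.closure_range_of]
  apply Subgroup.closure_mono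
  rintro _ ⟨x, rfl⟩
  exact ⟨idx x, idx_lt x, by rw [gG, gen_idx]⟩

/-! ### words -/

theorem prodw_replicate {Γ : Type*} [Group Γ] (f : ℕ → Γ) (k : ℕ) (u : List ℕ) :
    prodw f (List.replicate k u).flatten = prodw f u ^ k := by
  induction k with
  | zero => simp [prodw]
  | succ k ih =>
    rw [List.replicate_succ, List.flatten_cons, prodw_append, ih, pow_succ]

theorem prodw_map {Γ : Type*} [Group Γ] (f : ℕ → Γ) (e : ℕ → ℕ) (w : List ℕ) :
    prodw (fun l => f (e l)) w = prodw f (w.map e) := by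
  induction w with
  | nil => rfl
  | cons l w ih => simp [prodw, ih]

theorem prodw_reverse_inv {Γ : Type*} [Group Γ] (f : ℕ → Γ) (hf : ∀ l, (f l)⁻¹ = f l)
    (w : List ℕ) : prodw f w.reverse = (prodw f w)⁻¹ := by
  induction w with
  | nil => simp [prodw]
  | cons l w ih =>
    rw [List.reverse_cons, prodw_append, ih]
    simp [prodw, hf]

/-- the Coxeter label of two letters. -/
def lab (i j : ℕ) : ℕ := coxLabel Fi24.edges (gen i) (gen j)

/-- the Coxeter word of the letters `i`, `j`. -/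
def coxW (i j : ℕ) : List ℕ := (List.replicate (lab j i) [i, j]).flatten

theorem prodw_coxW (i j : ℕ) : prodw gG (coxW i j) = 1 := by
  rw [coxW, prodw_replicate]
  have : prodw gG [i, j] = gG j * gG i := by simp [prodw]
  rw [this]
  exact cox (gen j) (gen i)

/-- `w` is a Coxeter word. -/
def isCox (w : List ℕ) : Bool :=
  (List.range 12).any fun i => (List.range 12).any fun j => w == coxW i j

theorem prodw_of_isCox {w : List ℕ} (h : isCox w = true) : prodw gG w = 1 := by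
  unfold isCox at h
  rw [List.any_eq_true] at h
  obtain ⟨i, -, h⟩ := h
  rw [List.any_eq_true] at h
  obtain ⟨j, -, h⟩ := h
  rw [beq_iff_eq] at h
  subst h
  exact prodw_coxW i j

/-- `l * ((abcdefh)^9)⁻¹` as a word. -/
def rlW : List ℕ := 0 :: (List.replicate 9 [10, 7, 6, 5, 4, 3, 2]).flatten

/-- `(dcbakldefgjdhi)^17` as a word. -/
def rzW : List ℕ := (List.replicate 17 [5, 4, 3, 2, 1, 0, 5, 6, 7, 8, 9, 5, 10, 11]).flatten

theorem prodw_rlW : prodw gG rlW = 1 := by
  have h := extra_one (r := Fi24.l * (((Fi24.a * Fi24.b * Fi24.c * Fi24.d * Fi24.e * Fi24.f * Fi24.h) ^ 9)⁻¹))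
    (by simp [Fi24.extra])
  simp only [map_mul, map_inv, map_pow] at h
  have h2 : gG 0 = (gG 2 * gG 3 * gG 4 * gG 5 * gG 6 * gG 7 * gG 10) ^ 9 :=
    mul_inv_eq_one.mp h
  rw [rlW, prodw, prodw_replicate]
  have : prodw gG [10, 7, 6, 5, 4, 3, 2] = gG 2 * gG 3 * gG 4 * gG 5 * gG 6 * gG 7 * gG 10 := by
    simp [prodw, mul_assoc]
  rw [this, ← h2, gG_mul_self]

theorem prodw_rzW : prodw gG rzW = 1 := by
  have h := extra_one (r := (Fi24.d * Fi24.c * Fi24.b * Fi24.a * Fi24.k * Fi24.l * Fi24.d * Fi24.e * Fi24.f * Fi24.g * Fi24.j * Fi24.d * Fi24.h * Fi24.i) ^ 17)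
    (by simp [Fi24.extra])
  simp only [map_mul, map_pow] at h
  have h2 : (gG 5 * gG 4 * gG 3 * gG 2 * gG 1 * gG 0 * gG 5 * gG 6 * gG 7 * gG 8 * gG 9 * gG 5 *
      gG 10 * gG 11) ^ 17 = 1 := h
  rw [rzW, prodw_replicate]
  have h3 : prodw gG [5, 4, 3, 2, 1, 0, 5, 6, 7, 8, 9, 5, 10, 11] =
      (gG 5 * gG 4 * gG 3 * gG 2 * gG 1 * gG 0 * gG 5 * gG 6 * gG 7 * gG 8 * gG 9 * gG 5 *
        gG 10 * gG 11)⁻¹ := by
    have := prodw_reverse_inv gG gG_inv [11, 10, 5, 9, 8, 7, 6, 5, 0, 1, 2, 3, 4, 5]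
    rw [show ([11, 10, 5, 9, 8, 7, 6, 5, 0, 1, 2, 3, 4, 5] : List ℕ).reverse =
      [5, 4, 3, 2, 1, 0, 5, 6, 7, 8, 9, 5, 10, 11] from rfl] at this
    rw [this]
    simp [prodw, mul_assoc]
  rw [h3, inv_pow, h2, inv_one]

/-! ### redundant relators from rank-5 parabolic subgroups -/

/-- letters of a parabolic subgroup. -/
def embL (L : List ℕ) (l : ℕ) : ℕ := L.getD l 0

theorem extA5 (L : List ℕ) (he : ∀ w ∈ CoxA5.rels, isCox (w.map (embL L)) = true)
    (w w' : List ℕ) (hw : ∀ l ∈ w, l < 5) (h0 : evalw 1024 CoxA5.ent w 0 = 0)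
    (hmap : w.map (embL L) = w') : prodw gG w' = 1 := by
  obtain ⟨S, hcl⟩ := CoxA5.closed (⊥ : Subgroup G) (fun l => gG (embL L l))
    (fun l hl => by rw [CoxA5.invF_ok l hl, gG_inv])
    (fun w hw => by rw [prodw_map]; exact prodw_of_isCox (he w hw))
    (fun w hw => by simp [CoxA5.subs] at hw)
  have := mem_of_evalw_zero S hcl hw h0
  rw [Subgroup.mem_bot, prodw_map, hmap] at this
  exact this

theorem extD5 (L : List ℕ) (he : ∀ w ∈ CoxD5.rels, isCox (w.map (embL L)) = true)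
    (w w' : List ℕ) (hw : ∀ l ∈ w, l < 5) (h0 : evalw 2048 CoxD5.ent w 0 = 0)
    (hmap : w.map (embL L) = w') : prodw gG w' = 1 := by
  obtain ⟨S, hcl⟩ := CoxD5.closed (⊥ : Subgroup G) (fun l => gG (embL L l))
    (fun l hl => by rw [CoxD5.invF_ok l hl, gG_inv])
    (fun w hw => by rw [prodw_map]; exact prodw_of_isCox (he w hw))
    (fun w hw => by simp [CoxD5.subs] at hw)
  have := mem_of_evalw_zero S hcl hw h0
  rw [Subgroup.mem_bot, prodw_map, hmap] at this
  exact this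

end Cfsg.Agent.Helper19.Fi24Ord
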