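import Cfsg.Agent.Helper19.Fi24Ord.Base

set_option autoImplicit false
set_option linter.all false
set_option maxRecDepth 100000

namespace Cfsg.Agent.Helper19.Fi24Ord

open Cfsg.Agent.Helper19.TCS

theorem ext0 : prodw gG [7, 8, 5, 10, 6, 7, 8, 5, 10, 6, 7, 8, 5, 10, 6, 7, 8, 5, 10, 6, 7, 8, 5, 10, 6, 7, 8, 5, 10, 6] = 1 :=
  extA5 [8, 7, 6, 5, 10] (by decide) [1, 0, 3, 4, 2, 1, 0, 3, 4, 2, 1, 0, 3, 4, 2, 1, 0, 3, 4, 2, 1, 0, 3, 4, 2, 1, 0, 3, 4, 2] _ (by decide) (by decide +kernel) (by decide)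

theorem ext1 : prodw gG [0, 1, 2, 3, 4, 0, 1, 2, 3, 4, 0, 1, 2, 3, 4, 0, 1, 2, 3, 4, 0, 1, 2, 3, 4, 0, 1, 2, 3, 4] = 1 :=
  extA5 [0, 1, 2, 3, 4] (by decide) [0, 1, 2, 3, 4, 0, 1, 2, 3, 4, 0, 1, 2, 3, 4, 0, 1, 2, 3, 4, 0, 1, 2, 3, 4, 0, 1, 2, 3, 4] _ (by decide) (by decide +kernel) (by decide)

theorem ext2 : prodw gG [3, 0, 4, 1, 2, 3, 0, 4, 1, 2, 3, 0, 4, 1, 2, 3, 0, 4, 1, 2, 3, 0, 4, 1, 2, 3, 0, 4, 1, 2] = 1 :=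
  extA5 [0, 1, 2, 3, 4] (by decide) [3, 0, 4, 1, 2, 3, 0, 4, 1, 2, 3, 0, 4, 1, 2, 3, 0, 4, 1, 2, 3, 0, 4, 1, 2, 3, 0, 4, 1, 2] _ (by decide) (by decide +kernel) (by decide)

theorem ext3 : prodw gG [1, 2, 3, 4, 5, 1, 2, 3, 4, 5, 1, 2, 3, 4, 5, 1, 2, 3, 4, 5, 1, 2, 3, 4, 5, 1, 2, 3, 4, 5] = 1 :=
  extA5 [1, 2, 3, 4, 5] (by decide) [0, 1, 2, 3, 4, 0, 1, 2, 3, 4, 0, 1, 2, 3, 4, 0, 1, 2, 3, 4, 0, 1, 2, 3, 4, 0, 1, 2, 3, 4] _ (by decide) (by decide +kernel) (by decide)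

theorem ext4 : prodw gG [5, 2, 1, 3, 4, 5, 2, 1, 3, 4, 5, 2, 1, 3, 4, 5, 2, 1, 3, 4, 5, 2, 1, 3, 4, 5, 2, 1, 3, 4] = 1 :=
  extA5 [5, 4, 3, 2, 1] (by decide) [0, 3, 4, 2, 1, 0, 3, 4, 2, 1, 0, 3, 4, 2, 1, 0, 3, 4, 2, 1, 0, 3, 4, 2, 1, 0, 3, 4, 2, 1] _ (by decide) (by decide +kernel) (by decide)

theorem ext5 : prodw gG [2, 3, 4, 5, 10, 2, 3, 4, 5, 10, 2, 3, 4, 5, 10, 2, 3, 4, 5, 10, 2, 3, 4, 5, 10, 2, 3, 4, 5, 10] = 1 :=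
  extA5 [2, 3, 4, 5, 10] (by decide) [0, 1, 2, 3, 4, 0, 1, 2, 3, 4, 0, 1, 2, 3, 4, 0, 1, 2, 3, 4, 0, 1, 2, 3, 4, 0, 1, 2, 3, 4] _ (by decide) (by decide +kernel) (by decide)

theorem ext6 : prodw gG [4, 10, 2, 3, 5, 4, 10, 2, 3, 5, 4, 10, 2, 3, 5, 4, 10, 2, 3, 5, 4, 10, 2, 3, 5, 4, 10, 2, 3, 5] = 1 :=
  extA5 [10, 5, 4, 3, 2] (by decide) [2, 0, 4, 3, 1, 2, 0, 4, 3, 1, 2, 0, 4, 3, 1, 2, 0, 4, 3, 1, 2, 0, 4, 3, 1, 2, 0, 4, 3, 1] _ (by decide) (by decide +kernel) (by decide)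

theorem ext7 : prodw gG [2, 3, 4, 5, 6, 2, 3, 4, 5, 6, 2, 3, 4, 5, 6, 2, 3, 4, 5, 6, 2, 3, 4, 5, 6, 2, 3, 4, 5, 6] = 1 :=
  extA5 [2, 3, 4, 5, 6] (by decide) [0, 1, 2, 3, 4, 0, 1, 2, 3, 4, 0, 1, 2, 3, 4, 0, 1, 2, 3, 4, 0, 1, 2, 3, 4, 0, 1, 2, 3, 4] _ (by decide) (by decide +kernel) (by decide)

theorem ext8 : prodw gG [2, 4, 3, 5, 6, 2, 4, 3, 5, 6, 2, 4, 3, 5, 6, 2, 4, 3, 5, 6, 2, 4, 3, 5, 6, 2, 4, 3, 5, 6] = 1 :=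
  extA5 [2, 3, 4, 5, 6] (by decide) [0, 2, 1, 3, 4, 0, 2, 1, 3, 4, 0, 2, 1, 3, 4, 0, 2, 1, 3, 4, 0, 2, 1, 3, 4, 0, 2, 1, 3, 4] _ (by decide) (by decide +kernel) (by decide)

theorem ext9 : prodw gG [5, 6, 7, 8, 9, 5, 6, 7, 8, 9, 5, 6, 7, 8, 9, 5, 6, 7, 8, 9, 5, 6, 7, 8, 9, 5, 6, 7, 8, 9] = 1 :=
  extA5 [5, 6, 7, 8, 9] (by decide) [0, 1, 2, 3, 4, 0, 1, 2, 3, 4, 0, 1, 2, 3, 4, 0, 1, 2, 3, 4, 0, 1, 2, 3, 4, 0, 1, 2, 3, 4] _ (by decide) (by decide +kernel) (by decide)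

theorem ext10 : prodw gG [6, 9, 7, 5, 8, 6, 9, 7, 5, 8, 6, 9, 7, 5, 8, 6, 9, 7, 5, 8, 6, 9, 7, 5, 8, 6, 9, 7, 5, 8] = 1 :=
  extA5 [9, 8, 7, 6, 5] (by decide) [3, 0, 2, 4, 1, 3, 0, 2, 4, 1, 3, 0, 2, 4, 1, 3, 0, 2, 4, 1, 3, 0, 2, 4, 1, 3, 0, 2, 4, 1] _ (by decide) (by decide +kernel) (by decide)

theorem ext11 : prodw gG [3, 4, 5, 6, 10, 3, 4, 5, 6, 10, 3, 4, 5, 6, 10, 3, 4, 5, 6, 10, 3, 4, 5, 6, 10, 3, 4, 5, 6, 10, 3, 4, 5, 6, 10, 3, 4, 5, 6, 10] = 1 :=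
  extD5 [3, 4, 5, 10, 6] (by decide) [0, 1, 2, 4, 3, 0, 1, 2, 4, 3, 0, 1, 2, 4, 3, 0, 1, 2, 4, 3, 0, 1, 2, 4, 3, 0, 1, 2, 4, 3, 0, 1, 2, 4, 3, 0, 1, 2, 4, 3] _ (by decide) (by decide +kernel) (by decide)

theorem ext12 : prodw gG [6, 3, 4, 5, 10, 6, 3, 4, 5, 10, 6, 3, 4, 5, 10, 6, 3, 4, 5, 10, 6, 3, 4, 5, 10, 6, 3, 4, 5, 10, 6, 3, 4, 5, 10, 6, 3, 4, 5, 10] = 1 :=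
  extD5 [3, 4, 5, 10, 6] (by decide) [4, 0, 1, 2, 3, 4, 0, 1, 2, 3, 4, 0, 1, 2, 3, 4, 0, 1, 2, 3, 4, 0, 1, 2, 3, 4, 0, 1, 2, 3, 4, 0, 1, 2, 3, 4, 0, 1, 2, 3] _ (by decide) (by decide +kernel) (by decide)

theorem ext13 : prodw gG [4, 5, 6, 7, 10, 4, 5, 6, 7, 10, 4, 5, 6, 7, 10, 4, 5, 6, 7, 10, 4, 5, 6, 7, 10, 4, 5, 6, 7, 10, 4, 5, 6, 7, 10, 4, 5, 6, 7, 10] = 1 :=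
  extD5 [7, 6, 5, 10, 4] (by decide) [4, 2, 1, 0, 3, 4, 2, 1, 0, 3, 4, 2, 1, 0, 3, 4, 2, 1, 0, 3, 4, 2, 1, 0, 3, 4, 2, 1, 0, 3, 4, 2, 1, 0, 3, 4, 2, 1, 0, 3] _ (by decide) (by decide +kernel) (by decide)

theorem ext14 : prodw gG [6, 5, 10, 4, 7, 6, 5, 10, 4, 7, 6, 5, 10, 4, 7, 6, 5, 10, 4, 7, 6, 5, 10, 4, 7, 6, 5, 10, 4, 7, 6, 5, 10, 4, 7, 6, 5, 10, 4, 7] = 1 :=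
  extD5 [7, 6, 5, 10, 4] (by decide) [1, 2, 3, 4, 0, 1, 2, 3, 4, 0, 1, 2, 3, 4, 0, 1, 2, 3, 4, 0, 1, 2, 3, 4, 0, 1, 2, 3, 4, 0, 1, 2, 3, 4, 0, 1, 2, 3, 4, 0] _ (by decide) (by decide +kernel) (by decide)

theorem ext15 : prodw gG [4, 5, 6, 10, 11, 4, 5, 6, 10, 11, 4, 5, 6, 10, 11, 4, 5, 6, 10, 11, 4, 5, 6, 10, 11, 4, 5, 6, 10, 11, 4, 5, 6, 10, 11, 4, 5, 6, 10, 11] = 1 :=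
  extD5 [11, 10, 5, 4, 6] (by decide) [3, 2, 4, 1, 0, 3, 2, 4, 1, 0, 3, 2, 4, 1, 0, 3, 2, 4, 1, 0, 3, 2, 4, 1, 0, 3, 2, 4, 1, 0, 3, 2, 4, 1, 0, 3, 2, 4, 1, 0] _ (by decide) (by decide +kernel) (by decide)

theorem ext16 : prodw gG [10, 4, 11, 6, 5, 10, 4, 11, 6, 5, 10, 4, 11, 6, 5, 10, 4, 11, 6, 5, 10, 4, 11, 6, 5, 10, 4, 11, 6, 5, 10, 4, 11, 6, 5, 10, 4, 11, 6, 5] = 1 :=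
  extD5 [11, 10, 5, 4, 6] (by decide) [1, 3, 0, 4, 2, 1, 3, 0, 4, 2, 1, 3, 0, 4, 2, 1, 3, 0, 4, 2, 1, 3, 0, 4, 2, 1, 3, 0, 4, 2, 1, 3, 0, 4, 2, 1, 3, 0, 4, 2] _ (by decide) (by decide +kernel) (by decide)

/-- the redundant relators. -/
def extraWords : List (List ℕ) := [[7, 8, 5, 10, 6, 7, 8, 5, 10, 6, 7, 8, 5, 10, 6, 7, 8, 5, 10, 6, 7, 8, 5, 10, 6, 7, 8, 5, 10, 6],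
  [0, 1, 2, 3, 4, 0, 1, 2, 3, 4, 0, 1, 2, 3, 4, 0, 1, 2, 3, 4, 0, 1, 2, 3, 4, 0, 1, 2, 3, 4],
  [3, 0, 4, 1, 2, 3, 0, 4, 1, 2, 3, 0, 4, 1, 2, 3, 0, 4, 1, 2, 3, 0, 4, 1, 2, 3, 0, 4, 1, 2],
  [1, 2, 3, 4, 5, 1, 2, 3, 4, 5, 1, 2, 3, 4, 5, 1, 2, 3, 4, 5, 1, 2, 3, 4, 5, 1, 2, 3, 4, 5],
  [5, 2, 1, 3, 4, 5, 2, 1, 3, 4, 5, 2, 1, 3, 4, 5, 2, 1, 3, 4, 5, 2, 1, 3, 4, 5, 2, 1, 3, 4],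
  [2, 3, 4, 5, 10, 2, 3, 4, 5, 10, 2, 3, 4, 5, 10, 2, 3, 4, 5, 10, 2, 3, 4, 5, 10, 2, 3, 4, 5, 10],
  [4, 10, 2, 3, 5, 4, 10, 2, 3, 5, 4, 10, 2, 3, 5, 4, 10, 2, 3, 5, 4, 10, 2, 3, 5, 4, 10, 2, 3, 5],
  [2, 3, 4, 5, 6, 2, 3, 4, 5, 6, 2, 3, 4, 5, 6, 2, 3, 4, 5, 6, 2, 3, 4, 5, 6, 2, 3, 4, 5, 6],
  [2, 4, 3, 5, 6, 2, 4, 3, 5, 6, 2, 4, 3, 5, 6, 2, 4, 3, 5, 6, 2, 4, 3, 5, 6, 2, 4, 3, 5, 6],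
  [5, 6, 7, 8, 9, 5, 6, 7, 8, 9, 5, 6, 7, 8, 9, 5, 6, 7, 8, 9, 5, 6, 7, 8, 9, 5, 6, 7, 8, 9],
  [6, 9, 7, 5, 8, 6, 9, 7, 5, 8, 6, 9, 7, 5, 8, 6, 9, 7, 5, 8, 6, 9, 7, 5, 8, 6, 9, 7, 5, 8],
  [3, 4, 5, 6, 10, 3, 4, 5, 6, 10, 3, 4, 5, 6, 10, 3, 4, 5, 6, 10, 3, 4, 5, 6, 10, 3, 4, 5, 6, 10, 3, 4, 5, 6, 10, 3, 4, 5, 6, 10],
  [6, 3, 4, 5, 10, 6, 3, 4, 5, 10, 6, 3, 4, 5, 10, 6, 3, 4, 5, 10, 6, 3, 4, 5, 10, 6, 3, 4, 5, 10, 6, 3, 4, 5, 10, 6, 3, 4, 5, 10],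
  [4, 5, 6, 7, 10, 4, 5, 6, 7, 10, 4, 5, 6, 7, 10, 4, 5, 6, 7, 10, 4, 5, 6, 7, 10, 4, 5, 6, 7, 10, 4, 5, 6, 7, 10, 4, 5, 6, 7, 10],
  [6, 5, 10, 4, 7, 6, 5, 10, 4, 7, 6, 5, 10, 4, 7, 6, 5, 10, 4, 7, 6, 5, 10, 4, 7, 6, 5, 10, 4, 7, 6, 5, 10, 4, 7, 6, 5, 10, 4, 7],
  [4, 5, 6, 10, 11, 4, 5, 6, 10, 11, 4, 5, 6, 10, 11, 4, 5, 6, 10, 11, 4, 5, 6, 10, 11, 4, 5, 6, 10, 11, 4, 5, 6, 10, 11, 4, 5, 6, 10, 11],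
  [10, 4, 11, 6, 5, 10, 4, 11, 6, 5, 10, 4, 11, 6, 5, 10, 4, 11, 6, 5, 10, 4, 11, 6, 5, 10, 4, 11, 6, 5, 10, 4, 11, 6, 5, 10, 4, 11, 6, 5]]

theorem extraWords_one : ∀ w ∈ extraWords, prodw gG w = 1 := by
  intro w hw
  simp only [extraWords, List.mem_cons, List.not_mem_nil, or_false] at hw
  rcases hw with rfl | rfl | rfl | rfl | rfl | rfl | rfl | rfl | rfl | rfl | rfl | rfl | rfl | rfl | rfl | rfl | rfl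
  · exact ext0
  · exact ext1
  · exact ext2
  · exact ext3
  · exact ext4
  · exact ext5
  · exact ext6
  · exact ext7
  · exact ext8
  · exact ext9
  · exact ext10
  · exact ext11
  · exact ext12
  · exact ext13
  · exact ext14
  · exact ext15
  · exact ext16

end Cfsg.Agent.Helper19.Fi24Ord
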